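import Cfsg.Agent.Lib.Fus.SymSix.Enum512.Log512Data

/-! Checks of a coset enumeration. -/

set_option autoImplicit false
set_option maxRecDepth 100000
set_option maxHeartbeats 4000000
set_option Elab.async false

namespace Cfsg.Agent.Fus.SymSix.Enum512

open Cfsg.Agent.Spor.Cos

theorem log512_def0 : allBlock log512.chkDef 106 512 0 = true := by decide +kernel

end Cfsg.Agent.Fus.SymSix.Enum512
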