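import Cfsg.Agent.Lib.Fus.SymSix.Enum512.Log512Part0
import Cfsg.Agent.Lib.Fus.SymSix.Enum512.Log512Def0
import Cfsg.Agent.Lib.Fus.SymSix.Enum512.Log512Final0
import Cfsg.Agent.Lib.Fus.SymSix.SpModel

/-! A checked coset enumeration. -/

set_option autoImplicit false
set_option maxRecDepth 100000
set_option maxHeartbeats 4000000
set_option Elab.async false

namespace Cfsg.Agent.Fus.SymSix.Enum512

open Cfsg.Agent.Spor.Cos

theorem log512_defs : ∀ i, i + 1 < log512.M → log512.chkDef i = true := by
  intro i hi
  change i + 1 < 107 at hi
  refine of_allBlock (n := 106) (size := 512) (by decide) (fun j hj => ?_) (by omega)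
  have hj' : j < 1 := by omega
  interval_cases j
  · exact log512_def0

theorem log512_facts : ∀ i, log512.M ≤ i + 1 → i < log512.nF → ∃ J, log512.chkFact i J = true := by
  exact log512.facts_of_covers (log512.covers_of_part _ _ _ log512_part0) rfl rfl

theorem log512_checks : log512.Checks where
  pos := by decide +kernel
  defs := log512_defs
  facts := log512_facts
  final := by
    intro k hk
    change k < 63 * 8 at hk
    refine of_allBlock (n := 504) (size := 512) (by decide) (fun j hj => ?_) (by omega)
    have hj' : j < 1 := by omega
    interval_cases j
    · exact log512_final0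

theorem log512_cert : PatCert base512 log512 where
  hC := log512_checks
  hn := rfl
  hbase := by decide +kernel
  hder := by decide +kernel
  hsub := by decide +kernel

theorem log512_N : log512.N = 63 := rfl

end Cfsg.Agent.Fus.SymSix.Enum512
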